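import Cfsg.Agent.Helper77.Br43.PGDefs

/-! Package (W10) of helper77's theorem PG (S0996): `arith_a_eq_one`, `IsBr.card_G`,
`index_le_two_or_card_le_two`. -/

set_option autoImplicit false

namespace Cfsg.Agent.Helper68.BrPG

open Cfsg.Agent.Helper77.BrPG
open scoped Pointwise

universe u

variable {G : Type u} [Group G] [Finite G] {p : ℕ} [Fact p.Prime]

/-- (PG6a) Lagrange for `N_G(E)` and the counting relations give `a = 1` and `e` even -/
theorem arith_a_eq_one (p e n a t k : ℕ) (hp : p.Prime) (hodd : p ≠ 2)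
    (hdvd : (n + 1) * e ∣ p * e * (1 + n * p)) (hat : a * t = n + 1) (hte : t * e = p - 1)
    (hek : e = 1 + a * (1 + t * k)) : a = 1 ∧ Even e := by
  have ha : 1 ≤ a := by
    rcases Nat.eq_zero_or_pos a with h | h
    · rw [h, zero_mul] at hat; omega
    · exact h
  have ht : 1 ≤ t := by
    rcases Nat.eq_zero_or_pos t with h | h
    · rw [h, mul_zero] at hat; omega
    · exact h
  have he : 1 + a ≤ e := by
    have h1 : a * 1 ≤ a * (1 + t * k) := Nat.mul_le_mul_left a (by omega)
    omega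
  have he0 : 0 < e := by omega
  have hp1 : t * e + 1 = p := by have := hp.two_le; omega
  have hlt : n + 1 < p := by
    have h1 : a * t ≤ (e - 1) * t := Nat.mul_le_mul_right t (by omega)
    have h2 : (e - 1) * t + t = t * e := by
      have : (e - 1) * t + t = (e - 1 + 1) * t := by ring
      rw [this, Nat.sub_add_cancel (by omega), mul_comm]
    omega
  have hcop : Nat.Coprime (n + 1) p :=
    ((Nat.Prime.coprime_iff_not_dvd hp).2
      (Nat.not_dvd_of_pos_of_lt (Nat.succ_pos n) hlt)).symm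
  have hd1 : (n + 1) ∣ p * (1 + n * p) := by
    have h3 : p * e * (1 + n * p) = (p * (1 + n * p)) * e := by ring
    rw [h3] at hdvd
    exact Nat.dvd_of_mul_dvd_mul_right he0 hdvd
  have hd2 : (n + 1) ∣ 1 + n * p := hcop.dvd_of_dvd_mul_left hd1
  have hd3 : (n + 1) ∣ t * e := by
    have h4 : (n + 1) ∣ (n + 1) * p - (1 + n * p) := Nat.dvd_sub (dvd_mul_right _ _) hd2
    have h5 : (n + 1) * p - (1 + n * p) = t * e := by
      have : (n + 1) * p = n * p + p := by ring
      rw [this]; omega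
    rwa [h5] at h4
  have hd4 : a ∣ e := by
    rw [← hat, mul_comm a t] at hd3
    exact Nat.dvd_of_mul_dvd_mul_left ht hd3
  have ha1 : a = 1 := by
    have h6 : a ∣ a * (1 + t * k) + 1 := by
      have : a * (1 + t * k) + 1 = e := by omega
      rw [this]; exact hd4
    exact Nat.dvd_one.1 ((Nat.dvd_add_right (dvd_mul_right a _)).1 h6)
  refine ⟨ha1, ?_⟩
  by_contra hne
  rw [Nat.not_even_iff_odd] at hne
  subst ha1
  obtain ⟨r, hr⟩ := hne
  have htk : Odd (t * k) := ⟨r - 1, by omega⟩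
  have hto : Odd t := (Nat.odd_mul.1 htk).1
  have hte' : Odd (t * e) := Nat.odd_mul.2 ⟨hto, ⟨r, hr⟩⟩
  obtain ⟨s, hs⟩ := hte'
  have h2p : 2 ∣ p := ⟨s + 1, by omega⟩
  exact hodd ((Nat.prime_dvd_prime_iff_eq Nat.prime_two hp).1 h2p).symm

/-- (PG6b) `|G| = p e (1 + n p)` -/
theorem IsBr.card_G {P : Sylow p G} {e n : ℕ} (h : IsBr P e n) :
    Nat.card G = p * e * (1 + n * p) := by
  have h1 := Subgroup.card_mul_index (Nz P)
  have h2 : (Nz P).index = Nat.card (Sylow p G) := (Sylow.card_eq_index_normalizer P).symm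
  rw [h2, h.cardN, h.cardS] at h1
  exact h1.symm

/-- (PG8a) a group `L` with a cyclic subgroup `E` such that all elements of `L \ E` are involutions:
`|L : E| ≤ 2` or `|E| ≤ 2`. -/
theorem index_le_two_or_card_le_two (L E : Subgroup G) (hEL : E ≤ L) (hcyc : IsCyclic E)
    (hinv : ∀ l ∈ L, l ∉ E → orderOf l = 2) :
    Nat.card L ≤ 2 * Nat.card E ∨ Nat.card E ≤ 2 := by
  classical
  by_cases hbig : Nat.card L ≤ 2 * Nat.card E
  · exact Or.inl hbig
  right
  -- every `l ∈ L \ E` inverts `E`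
  have hsq : ∀ l ∈ L, l ∉ E → l * l = 1 := by
    intro l hl hlE
    have := hinv l hl hlE
    rw [← pow_two, ← this]; exact pow_orderOf_eq_one l
  have hinvE : ∀ l ∈ L, l ∉ E → ∀ y ∈ E, l * y * l⁻¹ = y⁻¹ := by
    intro l hl hlE y hy
    have hly : l * y ∉ E := fun h => hlE (by
      have := E.mul_mem h (E.inv_mem hy)
      simpa using this)
    have h1 := hsq (l * y) (L.mul_mem hl (hEL hy)) hly
    have h2 := hsq l hl hlE
    have h3 : l⁻¹ = l := by
      rw [inv_eq_iff_mul_eq_one]; exact h2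
    rw [h3]
    -- l y l y = 1
    have h4 : l * y * l = y⁻¹ := by
      rw [eq_inv_iff_mul_eq_one]
      simpa [mul_assoc] using h1
    exact h4
  -- some `l₁ ∈ L \ E`
  have hex1 : ∃ l₁ ∈ L, l₁ ∉ E := by
    by_contra hcon
    push Not at hcon
    have hLE : L ≤ E := fun l hl => hcon l hl
    have := Subgroup.card_le_of_le hLE
    omega
  obtain ⟨l₁, hl₁, hl₁E⟩ := hex1
  -- some `l₂ ∈ L \ E` with `l₁ l₂ ∉ E`
  have hex2 : ∃ l₂ ∈ L, l₂ ∉ E ∧ l₁ * l₂ ∉ E := by
    by_contra hcon
    push Not at hcon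
    apply hbig
    -- injection `L → E × Bool`
    let f : L → E × Bool := fun l =>
      if h : (l : G) ∈ E then (⟨l, h⟩, false) else (⟨l₁ * l, hcon l l.2 h⟩, true)
    have hf : Function.Injective f := by
      intro a b hab
      by_cases ha : (a : G) ∈ E <;> by_cases hb : (b : G) ∈ E
      · simp only [f, dif_pos ha, dif_pos hb, Prod.mk.injEq, Subtype.mk.injEq, and_true] at hab
        exact Subtype.ext hab
      · simp only [f, dif_pos ha, dif_neg hb, Prod.mk.injEq] at hab
        exact absurd hab.2 (by simp)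
      · simp only [f, dif_neg ha, dif_pos hb, Prod.mk.injEq] at hab
        exact absurd hab.2 (by simp)
      · simp only [f, dif_neg ha, dif_neg hb, Prod.mk.injEq, Subtype.mk.injEq, and_true] at hab
        exact Subtype.ext (mul_left_cancel hab)
    have := Nat.card_le_card_of_injective f hf
    rw [Nat.card_prod, Nat.card_eq_fintype_card (α := Bool), Fintype.card_bool] at this
    omega
  obtain ⟨l₂, hl₂, hl₂E, hl₁₂E⟩ := hex2
  -- `E` has exponent two
  have hexp : ∀ y ∈ E, y * y = 1 := by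
    intro y hy
    have h1 := hinvE (l₁ * l₂) (L.mul_mem hl₁ hl₂) hl₁₂E y hy
    have h2 := hinvE l₂ hl₂ hl₂E y hy
    have h3 := hinvE l₁ hl₁ hl₁E y⁻¹ (E.inv_mem hy)
    have h4 : l₁ * l₂ * y * (l₁ * l₂)⁻¹ = l₁ * (l₂ * y * l₂⁻¹) * l₁⁻¹ := by group
    rw [h4, h2, h3, inv_inv] at h1
    -- y = y⁻¹
    have : y * y = y * y⁻¹ := by rw [← h1]
    rw [this, mul_inv_cancel]
  -- a cyclic group of exponent two has order at most two
  obtain ⟨g, hg⟩ := hcyc.exists_generator
  have hg2 : g ^ 2 = 1 := by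
    have := hexp g g.2
    apply Subtype.ext
    rw [pow_two]
    exact this
  have hcard : Nat.card E = orderOf g := by
    rw [← Nat.card_zpowers g]
    have : Subgroup.zpowers g = ⊤ := by
      rw [Subgroup.eq_top_iff']; exact hg
    rw [this]
    exact (Nat.card_congr Subgroup.topEquiv.toEquiv).symm
  rw [hcard]
  exact Nat.le_of_dvd (by norm_num) (orderOf_dvd_of_pow_eq_one hg2)

end Cfsg.Agent.Helper68.BrPG
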