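import Cfsg.Agent.Helper77.Br43.PGDefs
import Cfsg.Agent.Helper5.BrPG.W2
import Cfsg.Agent.Helper59.BrPG.W3

/-! Package (W15) of helper77's theorem PG (S0996): `card_Ez_of_sum`. -/

set_option autoImplicit false

namespace Cfsg.Agent.Helper68.BrPG

open Cfsg.Agent.Helper77.BrPG
open scoped Pointwise

universe u

variable {G : Type u} [Group G] [Finite G] {p : ℕ} [Fact p.Prime]

/-- summing a function of `g • P` over `g : G` -/
theorem sum_smul_eq [Fintype G] [Fintype (Sylow p G)] (P : Sylow p G) (F : Sylow p G → ℕ) :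
    ∑ g : G, F (g • P) = Nat.card (Nz P) * ∑ Q : Sylow p G, F Q := by
  classical
  rw [Finset.mul_sum,
    ← Finset.sum_fiberwise (s := Finset.univ) (g := fun g : G => g • P) (f := fun g => F (g • P))]
  apply Finset.sum_congr rfl
  intro Q _
  have h1 : ∀ g ∈ Finset.univ.filter (fun g : G => g • P = Q), F (g • P) = F Q := by
    intro g hg
    rw [(Finset.mem_filter.1 hg).2]
  rw [Finset.sum_congr rfl h1, Finset.sum_const, smul_eq_mul]
  congr 1
  obtain ⟨g₀, hg₀⟩ := MulAction.exists_smul_eq G P Q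
  have h2 : (Finset.univ.filter (fun g : G => g • P = Q)).card = Nat.card {g : G // g • P = Q} := by
    rw [Nat.card_eq_fintype_card, Fintype.card_subtype]
  rw [h2]
  refine Nat.card_congr
    { toFun := fun g => ⟨g₀⁻¹ * g.1, ?_⟩
      invFun := fun w => ⟨g₀ * w.1, ?_⟩
      left_inv := fun g => by simp
      right_inv := fun w => by simp }
  · rw [Cfsg.Agent.Helper5.BrPG.mem_Nz_iff, mul_smul, g.2, ← hg₀, inv_smul_smul]
  · have := (Cfsg.Agent.Helper5.BrPG.mem_Nz_iff w.1 P).1 w.2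
    rw [mul_smul, this, hg₀]

/-- (PG9) if `Σ_g |N ∩ g N g⁻¹| = (n + 1) |N|²` then all `|N ∩ N(Q)| = e` -/
theorem card_Ez_of_sum (P : Sylow p G) (e n : ℕ) (hP : Nat.card P = p)
    (hcen : Subgroup.centralizer ((P : Subgroup G) : Set G) = (P : Subgroup G))
    (hN : Nat.card (Nz P) = p * e) (hS : Nat.card (Sylow p G) = 1 + n * p)
    (hsum : ∑ᶠ g : G, Nat.card ↥(Nz P ⊓ MulAut.conj g • Nz P) = (n + 1) * (p * e) ^ 2)
    (Q : Sylow p G) (hQ : Q ≠ P) : Nat.card (Ez P Q) = e := by
  classical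
  haveI : Fintype G := Fintype.ofFinite G
  haveI : Fintype (Sylow p G) := Fintype.ofFinite _
  have hpe : 0 < p * e := by rw [← hN]; exact Nat.card_pos
  have he : 0 < e := Nat.pos_of_mul_pos_left hpe |> fun _ => by
    rcases Nat.eq_zero_or_pos e with h | h
    · rw [h, mul_zero] at hpe; omega
    · exact h
  -- rewrite the sum
  have h1 : ∑ᶠ g : G, Nat.card ↥(Nz P ⊓ MulAut.conj g • Nz P) =
      ∑ g : G, Nat.card (Ez P (g • P)) := by
    rw [finsum_eq_sum_of_fintype]
    apply Finset.sum_congr rfl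
    intro g _
    rw [← Cfsg.Agent.Helper5.BrPG.Nz_smul]
  rw [h1, sum_smul_eq P (fun Q' => Nat.card (Ez P Q')), hN] at hsum
  -- split off `Q' = P`
  have h2 : ∑ Q' : Sylow p G, Nat.card (Ez P Q') =
      p * e + ∑ Q' ∈ Finset.univ.erase P, Nat.card (Ez P Q') := by
    rw [← Finset.add_sum_erase Finset.univ _ (Finset.mem_univ P)]
    congr 1
    have : Ez P P = Nz P := inf_idem _
    rw [this, hN]
  rw [h2] at hsum
  have h3 : ∑ Q' ∈ Finset.univ.erase P, Nat.card (Ez P Q') = n * p * e := by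
    have h4 : (p * e) * (p * e + ∑ Q' ∈ Finset.univ.erase P, Nat.card (Ez P Q')) =
        (p * e) * ((n + 1) * (p * e)) := by rw [hsum]; ring
    have h5 := Nat.eq_of_mul_eq_mul_left hpe h4
    have h6 : (n + 1) * (p * e) = p * e + n * p * e := by ring
    omega
  -- each term is at most `e`
  have hle : ∀ Q' ∈ Finset.univ.erase P, Nat.card (Ez P Q') ≤ e := by
    intro Q' hQ'
    have hne : Q' ≠ P := (Finset.mem_erase.1 hQ').1
    have := (Cfsg.Agent.Helper59.BrPG.isCyclic_of_inf_eq_bot P hP hcen e hN (Ez P Q') inf_le_left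
      (Cfsg.Agent.Helper5.BrPG.Ez_inf_eq_bot P hP Q' hne)).2
    exact Nat.le_of_dvd he this
  have hcardS : (Finset.univ.erase P : Finset (Sylow p G)).card = n * p := by
    rw [Finset.card_erase_of_mem (Finset.mem_univ P), Finset.card_univ,
      ← Nat.card_eq_fintype_card, hS]
    omega
  have h7 : ∑ Q' ∈ Finset.univ.erase P, Nat.card (Ez P Q') = ∑ _Q' ∈ Finset.univ.erase P, e := by
    rw [h3, Finset.sum_const, smul_eq_mul, hcardS]
  exact (Finset.sum_eq_sum_iff_of_le hle).1 h7 Q (Finset.mem_erase.2 ⟨hQ, Finset.mem_univ Q⟩)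

end Cfsg.Agent.Helper68.BrPG
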